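import Cfsg.Agent.Spor.Chk

set_option autoImplicit false
set_option maxRecDepth 100000000
set_option Elab.async false
noncomputable section

namespace Cfsg.Agent.Spor.J4ma

def m0_0 : Nat := nat_lit 0x5000800000000010
def m0_1 : Nat := nat_lit 0x4a00000000a2944451
def m0_2 : Nat := nat_lit 0x48000000000000911100004070
def m0_3 : Nat := nat_lit 0x48000200000004003c00c300530007
def m0_4 : Nat := nat_lit 0x10002000000020402040b0702080d0a
def m0_5 : Nat := nat_lit 0x1002000000001000332322013101001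
def m0_6 : Nat := nat_lit 0x4000000000010401450000411451101
def m0_7 : Nat := nat_lit 0x1000000000000000000000110000101
def m0_8 : Nat := nat_lit 0x1000200000002040300010205090202
def m0_9 : Nat := nat_lit 0x800020000000400180001004a0007
def m0_10 : Nat := nat_lit 0x48000000000000904d00004070
def m0_11 : Nat := nat_lit 0x4a00000000819d0401
def m0_12 : Nat := nat_lit 0x5000800000000010
def n0 : Net := Net.cons 64 m0_0 (Net.cons 32 m0_1 (Net.cons 16 m0_2 (Net.cons 8 m0_3 (Net.cons 4 m0_4 (Net.cons 2 m0_5 (Net.cons 1 m0_6 (Net.cons 2 m0_7 (Net.cons 4 m0_8 (Net.cons 8 m0_9 (Net.cons 16 m0_10 (Net.cons 32 m0_11 (Net.cons 64 m0_12 (Net.nil)))))))))))))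

def m1_0 : Nat := nat_lit 0x400000000084f
def m1_1 : Nat := nat_lit 0x20000000006880808c
def m1_2 : Nat := nat_lit 0x400000000000010cd0000842e
def m1_3 : Nat := nat_lit 0xb002400bb006c005c
def m1_4 : Nat := nat_lit 0x20000010508020002010e0109
def m1_5 : Nat := nat_lit 0x1000003103100002000101311
def m1_6 : Nat := nat_lit 0x1000000415140101010440054
def m1_7 : Nat := nat_lit 0x1000000100110200010010001
def m1_8 : Nat := nat_lit 0x2000001010008020001000001
def m1_9 : Nat := nat_lit 0xb00ac000000280059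
def m1_10 : Nat := nat_lit 0x400000000000010cd000049db
def m1_11 : Nat := nat_lit 0x20000000006090904c
def m1_12 : Nat := nat_lit 0x400000000084f
def n1 : Net := Net.cons 64 m1_0 (Net.cons 32 m1_1 (Net.cons 16 m1_2 (Net.cons 8 m1_3 (Net.cons 4 m1_4 (Net.cons 2 m1_5 (Net.cons 1 m1_6 (Net.cons 2 m1_7 (Net.cons 4 m1_8 (Net.cons 8 m1_9 (Net.cons 16 m1_10 (Net.cons 32 m1_11 (Net.cons 64 m1_12 (Net.nil)))))))))))))

def m2_0 : Nat := nat_lit 0x19e
def m2_1 : Nat := nat_lit 0xbe14099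
def m2_2 : Nat := nat_lit 0x29180000720e
def m2_3 : Nat := nat_lit 0x4100aa006a002900c4
def m2_4 : Nat := nat_lit 0x102000d030600040001
def m2_5 : Nat := nat_lit 0x11012131311033031031
def m2_6 : Nat := nat_lit 0x4140000504055404104
def m2_7 : Nat := nat_lit 0x1010000001000001001
def m2_8 : Nat := nat_lit 0x1020800030000040001
def m2_9 : Nat := nat_lit 0x4100000062002900c0
def m2_10 : Nat := nat_lit 0x29180000520e
def m2_11 : Nat := nat_lit 0xbe14099
def m2_12 : Nat := nat_lit 0x19e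
def n2 : Net := Net.cons 64 m2_0 (Net.cons 32 m2_1 (Net.cons 16 m2_2 (Net.cons 8 m2_3 (Net.cons 4 m2_4 (Net.cons 2 m2_5 (Net.cons 1 m2_6 (Net.cons 2 m2_7 (Net.cons 4 m2_8 (Net.cons 8 m2_9 (Net.cons 16 m2_10 (Net.cons 32 m2_11 (Net.cons 64 m2_12 (Net.nil)))))))))))))

def m3_0 : Nat := nat_lit 0x3000900000000810
def m3_1 : Nat := nat_lit 0x605000000004219881b
def m3_2 : Nat := nat_lit 0x6000000000000004cd80000aa82
def m3_3 : Nat := nat_lit 0x5000000090045006300130043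
def m3_4 : Nat := nat_lit 0x200050000000008080300060604090f
def m3_5 : Nat := nat_lit 0x1000000000000100100200100210212
def m3_6 : Nat := nat_lit 0x11004000000000410111055404014455
def m3_7 : Nat := nat_lit 0x1000000000000100100000100012000
def m3_8 : Nat := nat_lit 0x2000400000000080000000604040600
def m3_9 : Nat := nat_lit 0x5000000090005002300020043
def m3_10 : Nat := nat_lit 0x6000000000000000c980000aa82
def m3_11 : Nat := nat_lit 0x605000000004219881b
def m3_12 : Nat := nat_lit 0x3000900000000810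
def n3 : Net := Net.cons 64 m3_0 (Net.cons 32 m3_1 (Net.cons 16 m3_2 (Net.cons 8 m3_3 (Net.cons 4 m3_4 (Net.cons 2 m3_5 (Net.cons 1 m3_6 (Net.cons 2 m3_7 (Net.cons 4 m3_8 (Net.cons 8 m3_9 (Net.cons 16 m3_10 (Net.cons 32 m3_11 (Net.cons 64 m3_12 (Net.nil)))))))))))))

def m4_0 : Nat := nat_lit 0x7008800000000001
def m4_1 : Nat := nat_lit 0x4000000a0000000092c6459b
def m4_2 : Nat := nat_lit 0x20020000400000004f0900008462
def m4_3 : Nat := nat_lit 0x1000080000008400c2009500040013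
def m4_4 : Nat := nat_lit 0x1080000000d00040c010400060101
def m4_5 : Nat := nat_lit 0x22000000012001003201000300130
def m4_6 : Nat := nat_lit 0x10000000044004100050144141544
def m4_7 : Nat := nat_lit 0x1000000000120002002
def m4_8 : Nat := nat_lit 0x100000000000008020a0208010403
def m4_9 : Nat := nat_lit 0x100008000000c00000008000c00004
def m4_10 : Nat := nat_lit 0x200200004000000045e800004d43
def m4_11 : Nat := nat_lit 0x4000000a000000001b8122c4
def m4_12 : Nat := nat_lit 0x7008800000000001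
def n4 : Net := Net.cons 64 m4_0 (Net.cons 32 m4_1 (Net.cons 16 m4_2 (Net.cons 8 m4_3 (Net.cons 4 m4_4 (Net.cons 2 m4_5 (Net.cons 1 m4_6 (Net.cons 2 m4_7 (Net.cons 4 m4_8 (Net.cons 8 m4_9 (Net.cons 16 m4_10 (Net.cons 32 m4_11 (Net.cons 64 m4_12 (Net.nil)))))))))))))

def cl1 : Nat := nat_lit 0x1fffffffffffffffffff
def tt1 : Nat := nat_lit 0x20140140000010084
def tm1_0 : Nat := nat_lit 0x2a35ec3ea01f1ffe84
def tm1_1 : Nat := nat_lit 0x17c5e80a296967160300
def tm1_2 : Nat := nat_lit 0x1b1db28c03ebff0aff30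
def tm1_3 : Nat := nat_lit 0xce04011402280400000
def tm1_4 : Nat := nat_lit 0x1ffdfebe2a8018000000
def ip1_0 : Nat := nat_lit 0x1d1bc16657624a53e0a4
def ip1_1 : Nat := nat_lit 0x8e9bc2a2a622f1c7330
def ip1_2 : Nat := nat_lit 0x17f4c6b5418bd4168a00
def ip1_3 : Nat := nat_lit 0x4c060082a829c420510
def ip1 : List Nat := [ip1_0, ip1_1, ip1_2, ip1_3]
def l1 : Let := ⟨0, false, cl1, tt1, [tm1_0, tm1_1, tm1_2, tm1_3, tm1_4]⟩

def cl2 : Nat := nat_lit 0x1fffffffffffffffffff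
def tt2 : Nat := nat_lit 0x8601020001000504448
def tm2_0 : Nat := nat_lit 0x1e7633290d1c07754c48
def tm2_1 : Nat := nat_lit 0x17900d09ef4e9dad3200
def tm2_2 : Nat := nat_lit 0xaa0481a841c8a3200
def tm2_3 : Nat := nat_lit 0x17950280040003200000
def tm2_4 : Nat := nat_lit 0x179fafcb7bcb28821800
def ip2_0 : Nat := nat_lit 0xd76b4a9ead3a9d94c48
def ip2_1 : Nat := nat_lit 0x159105810308092d1200
def ip2_2 : Nat := nat_lit 0x60c8f8114c012a42200
def ip2_3 : Nat := nat_lit 0x186224ae80fac821800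
def ip2 : List Nat := [ip2_0, ip2_1, ip2_2, ip2_3]
def l2 : Let := ⟨1, false, cl2, tt2, [tm2_0, tm2_1, tm2_2, tm2_3, tm2_4]⟩

def cl3 : Nat := nat_lit 0x1fffffffffffffffffff
def tt3 : Nat := nat_lit 0x180200aa80484008110
def tm3_0 : Nat := nat_lit 0x5cbe96ae885f443a194
def tm3_1 : Nat := nat_lit 0x6221d4101cb70532044
def tm3_2 : Nat := nat_lit 0x1838c0041453605d2480
def tm3_3 : Nat := nat_lit 0x1e454080144360002000
def tm3_4 : Nat := nat_lit 0x1e7fdde541a810020800
def ip3_0 : Nat := nat_lit 0xd88ed2af9af845ea194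
def ip3_1 : Nat := nat_lit 0x18710980401a504720c4
def ip3_2 : Nat := nat_lit 0x1e005d200168505b2c80
def ip3_3 : Nat := nat_lit 0x6140d84156a50122800
def ip3_4 : Nat := nat_lit 0x6b9061408120000044
def ip3 : List Nat := [ip3_0, ip3_1, ip3_2, ip3_3, ip3_4]
def l3 : Let := ⟨2, false, cl3, tt3, [tm3_0, tm3_1, tm3_2, tm3_3, tm3_4]⟩

def cl4 : Nat := nat_lit 0x1fffffffffffffffffff
def tt4 : Nat := nat_lit 0x6154295022b08a20802
def tm4_0 : Nat := nat_lit 0x165d4e9526ebece70a02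
def tm4_1 : Nat := nat_lit 0xc80c00040000000008
def tm4_2 : Nat := nat_lit 0x828816061c0e40d0024
def tm4_3 : Nat := nat_lit 0x19e280080400a0400208
def tm4_4 : Nat := nat_lit 0x19ea8d686180040d0000
def ip4_0 : Nat := nat_lit 0x1e9d47b5622b4caa0a06
def ip4_1 : Nat := nat_lit 0x19a28d684540e445002c
def ip4_2 : Nat := nat_lit 0x1848800024404405002c
def ip4_3 : Nat := nat_lit 0x200c40418000480200
def ip4 : List Nat := [ip4_0, ip4_1, ip4_2, ip4_3]
def l4 : Let := ⟨3, false, cl4, tt4, [tm4_0, tm4_1, tm4_2, tm4_3, tm4_4]⟩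

def cl5 : Nat := nat_lit 0x1fffffffffffffffffff
def tt5 : Nat := nat_lit 0x400008021041220
def tm5_0 : Nat := nat_lit 0x1bed9b9f7343daa920a0
def tm5_1 : Nat := nat_lit 0x874772994a529e49624
def tm5_2 : Nat := nat_lit 0x12730dcba2a88114680
def tm5_3 : Nat := nat_lit 0xec04004042084600000
def tm5_4 : Nat := nat_lit 0xff773fbaa0c08800400
def ip5_0 : Nat := nat_lit 0x183f9b3541465618e080
def ip5_1 : Nat := nat_lit 0x66255a322a52db59220
def ip5_2 : Nat := nat_lit 0x862304a9c0480404484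
def ip5_3 : Nat := nat_lit 0x39562dc882a08008000
def ip5 : List Nat := [ip5_0, ip5_1, ip5_2, ip5_3]
def l5 : Let := ⟨4, false, cl5, tt5, [tm5_0, tm5_1, tm5_2, tm5_3, tm5_4]⟩

def cl6 : Nat := nat_lit 0x1fffffffffffffffffff
def tt6 : Nat := nat_lit 0x10088800414052082000
def tm6_0 : Nat := nat_lit 0xfa3c6ff04e63504522d
def tm6_1 : Nat := nat_lit 0xc7a6b4b4545da682086
def tm6_2 : Nat := nat_lit 0x62bb09d32229c114088
def tm6_3 : Nat := nat_lit 0x19c14000040a80600000
def tm6_4 : Nat := nat_lit 0x1ffaf3fe72041c000000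
def ip6_0 : Nat := nat_lit 0x8e0156e428c29051229
def ip6_1 : Nat := nat_lit 0x1439dbda476cde196084
def ip6_2 : Nat := nat_lit 0x82a702970060070000b
def ip6_3 : Nat := nat_lit 0x7d32294322100000000
def ip6 : List Nat := [ip6_0, ip6_1, ip6_2, ip6_3]
def l6 : Let := ⟨4, true, cl6, tt6, [tm6_0, tm6_1, tm6_2, tm6_3, tm6_4]⟩

def NT : List Net := [n0, n1, n2, n3, n4]
def LT : List Let := [⟨0, false, 0, 0, []⟩, l1, l2, l3, l4, l5, l6]
def T : Tab := ⟨NT, LT⟩
def EX : List (List Nat) := [[], [0], [2], [4], [6], [8], [9]]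
def RL : List (List Nat) := [[8, 8, 8], [8, 0, 8, 0], [8, 4, 8, 4, 8, 4, 8, 4, 8, 4], [8, 4, 9, 4, 0, 4, 8, 4, 9, 0, 4, 0], [0, 8, 2, 9, 2, 0, 2], [4, 9, 4, 2, 4, 8, 4, 2], [4, 0, 2, 4, 0, 2, 4, 0, 2], [0, 9, 6, 8, 0, 6], [0, 2, 4, 2, 4, 0, 6, 0, 2, 4, 2, 0, 6], [8, 6, 9, 4, 9, 6, 8, 4, 6]]
def XL : List (List Nat) := []
def BW : List (List Nat) := [[0], [2], [4], [8]]
def IV : Nat := 0x5060403020100
def L : List Nat := [1, 2, 3, 4, 5, 6]
def gs : List Nat := [1, 2, 3, 4, 5]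
def base : List Nat := [1, 2, 3, 5]

end Cfsg.Agent.Spor.J4ma
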